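import Cfsg.Agent.Lib.Trans3.Spider.Collapse

/-! Generated coset enumeration certificate A1. -/

set_option autoImplicit false
set_option maxRecDepth 100000

namespace CfsgLib.Trans3.Spider.A1

open CfsgLib.InvChar.Coset

/-- facts -/
noncomputable def facts : Tr := (.leaf 0x2100002000000000000000200000100001100000)
/-- justifications -/
noncomputable def just : Tr := (.leaf 0x100000000020000000001004000040120000000000)
/-- relators -/
def rels : List (List ℕ) := [[0, 1, 0, 1, 0, 1], [0, 0], [1, 1]]
/-- subgroup words -/
def subs : List (List ℕ) := [[0]]
/-- the local letters -/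
def emb : List ℕ := [3, 2]
/-- certificate -/
noncomputable def cert : Cert := ⟨2, 4, 2, facts, just, rels, subs⟩
/-- table -/
noncomputable def permTable : Tr := (.leaf 0x20000100000000020000100000)
/-- node of a coset -/
noncomputable def live : Tr := (.leaf 0x20000100000)
/-- fact of an entry -/
noncomputable def fin : Tr := (.leaf 0x30000100000000010000000002)
/-- table -/
noncomputable def table : Table := ⟨3, 2, permTable⟩

end CfsgLib.Trans3.Spider.A1
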